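import Mathlib

/-!
# Isomorphisms of elliptic curves descend to henselian local domains with algebraically closed residue field
-/

set_option autoImplicit false
set_option linter.style.haveILetI false

universe u

open Polynomial WeierstrassCurve

namespace Groth.Agent.H26Ell.Descent

variable {R : Type u} [CommRing R]

/-- A polynomial with invertible leading coefficient and no repeated root modulo the maximal ideal. -/
structure Sep [IsLocalRing R] (p : R[X]) : Prop where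
  lead : IsUnit p.leadingCoeff
  simple : ∀ κ : IsLocalRing.ResidueField R,
    (p.map (IsLocalRing.residue R)).eval κ = 0 → (derivative p |>.map (IsLocalRing.residue R)).eval κ ≠ 0

theorem exists_roots [IsDomain R] [HenselianLocalRing R] [IsAlgClosed (IsLocalRing.ResidueField R)]
    {p : R[X]} (hp : Sep p) :
    ∃ Z : Finset R, Z.card = p.natDegree ∧ (∀ z ∈ Z, p.eval z = 0) ∧
      Set.InjOn (IsLocalRing.residue R) (Z : Set R) := by
  classical
  obtain ⟨c, hc⟩ := hp.lead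
  let q : R[X] := C (↑c⁻¹ : R) * p
  have hq : q.Monic := by
    show leadingCoeff _ = 1
    rw [leadingCoeff_mul, leadingCoeff_C, ← hc, Units.inv_mul]
  let ρ := IsLocalRing.residue R
  let pb := p.map ρ
  have hdeg : pb.natDegree = p.natDegree := natDegree_map_of_leadingCoeff_ne_zero _ (hp.lead.map ρ).ne_zero
  have hne : pb ≠ 0 := fun h0 => (hp.lead.map ρ).ne_zero (by
    have := congrArg (fun f : (IsLocalRing.ResidueField R)[X] => f.coeff p.natDegree) h0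
    simpa [pb] using this)
  have hnd : pb.roots.Nodup := by
    rw [Multiset.nodup_iff_count_le_one]
    intro κ
    rw [count_roots]
    by_contra hlt
    obtain ⟨hroot, hder⟩ := (one_lt_rootMultiplicity_iff_isRoot hne).1 (not_le.1 hlt)
    exact hp.simple κ hroot (by simpa [pb, derivative_map] using hder)
  have hlift : ∀ κ ∈ pb.roots.toFinset, ∃ z : R, p.eval z = 0 ∧ ρ z = κ := by
    intro κ hκ
    rw [Multiset.mem_toFinset, mem_roots hne] at hκ
    have h1 : aeval κ q = 0 := by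
      simp only [q, map_mul, aeval_def, IsLocalRing.ResidueField.algebraMap_eq, eval₂_eq_eval_map]
      exact mul_eq_zero_of_right _ hκ
    have h2 : aeval κ (derivative q) ≠ 0 := by
      simp only [q, derivative_C_mul, map_mul, aeval_C, IsLocalRing.ResidueField.algebraMap_eq]
      refine mul_ne_zero (c⁻¹.isUnit.map ρ).ne_zero ?_
      simpa [aeval_def, eval₂_eq_eval_map] using hp.simple κ hκ
    have hH : ∀ f : R[X], f.Monic → ∀ a₀ : IsLocalRing.ResidueField R, aeval a₀ f = 0 →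
        aeval a₀ (derivative f) ≠ 0 → ∃ a : R, f.IsRoot a ∧ IsLocalRing.residue R a = a₀ :=
      ((HenselianLocalRing.TFAE R).out 0 1 : HenselianLocalRing R ↔ _).1 ‹_›
    obtain ⟨z, hz, hzκ⟩ := hH q hq κ h1 h2
    refine ⟨z, ?_, hzκ⟩
    have hz' : (↑c⁻¹ : R) * p.eval z = 0 := by simpa [q, IsRoot] using hz
    exact c⁻¹.isUnit.mul_right_eq_zero.1 hz'
  choose lift hlift₁ hlift₂ using hlift
  refine ⟨pb.roots.toFinset.attach.image fun κ => lift κ.1 κ.2, ?_, ?_, ?_⟩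
  · rw [Finset.card_image_of_injective _ fun a b hab => Subtype.ext
      (by rw [← hlift₂ a.1 a.2, ← hlift₂ b.1 b.2, show lift a.1 a.2 = lift b.1 b.2 from hab]),
      Finset.card_attach, Multiset.toFinset_card_of_nodup hnd, ← hdeg,
      ← (IsAlgClosed.splits pb).natDegree_eq_card_roots]
  · intro z hz
    obtain ⟨κ, -, rfl⟩ := Finset.mem_image.1 hz
    exact hlift₁ κ.1 κ.2
  · intro a ha b hb hab
    obtain ⟨κ, -, rfl⟩ := Finset.mem_image.1 ha
    obtain ⟨μ, -, rfl⟩ := Finset.mem_image.1 hb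
    rw [hlift₂, hlift₂] at hab
    rw [Subtype.ext hab]

theorem exists_eq_of_root [IsDomain R] [HenselianLocalRing R] [IsAlgClosed (IsLocalRing.ResidueField R)]
    {p : R[X]} (hp : Sep p) {L : Type u} [Field L] (φ : R →+* L) (hφ : Function.Injective φ) {e : L}
    (he : (p.map φ).eval e = 0) : ∃ z : R, p.eval z = 0 ∧ φ z = e := by
  classical
  obtain ⟨Z, hcard, hZ, -⟩ := exists_roots hp
  by_contra hno
  push Not at hno
  have hne : p.map φ ≠ 0 := (Polynomial.map_ne_zero_iff hφ).2 fun h0 => by simpa [h0] using hp.lead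
  have hsub : insert e (Z.image φ) ⊆ (p.map φ).roots.toFinset := by
    intro x hx
    rw [Multiset.mem_toFinset, mem_roots hne]
    rcases Finset.mem_insert.1 hx with rfl | hx
    · exact he
    · obtain ⟨z, hz, rfl⟩ := Finset.mem_image.1 hx
      rw [IsRoot, eval_map, eval₂_at_apply, hZ z hz, map_zero]
  have h1 := (Finset.card_le_card hsub).trans
    ((Multiset.toFinset_card_le _).trans ((card_roots' _).trans (natDegree_map_le (f := φ) (p := p))))
  rw [Finset.card_insert_of_notMem, Finset.card_image_of_injective _ hφ, hcard] at h1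
  · omega
  · simp only [Finset.mem_image, not_exists, not_and]
    exact fun z hz => hno z (hZ z hz)

theorem isUnit_sub [IsDomain R] [IsLocalRing R] {z w : R}
    (h : IsLocalRing.residue R z ≠ IsLocalRing.residue R w) : IsUnit (z - w) :=
  (IsLocalRing.residue_ne_zero_iff_isUnit _).1 (by rwa [map_sub, sub_ne_zero])

/-- Roots of a separable polynomial differ by units. -/
theorem isUnit_root_sub [IsDomain R] [HenselianLocalRing R] [IsAlgClosed (IsLocalRing.ResidueField R)]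
    {p : R[X]} (hp : Sep p) {z w : R} (hz : p.eval z = 0) (hw : p.eval w = 0) (hne : z ≠ w) :
    IsUnit (z - w) := by
  obtain ⟨Z, -, -, hinj⟩ := exists_roots hp
  obtain ⟨Z', hcard, hZ', hinj'⟩ := exists_roots hp
  classical
  let K := FractionRing R
  have hmem : ∀ y : R, p.eval y = 0 → y ∈ Z' := fun y hy => by
    have hne : p ≠ 0 := fun h0 => by simpa [h0] using hp.lead
    have hsub : Z' ⊆ p.roots.toFinset := fun x hx => by
      rw [Multiset.mem_toFinset, mem_roots hne]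
      exact hZ' x hx
    have : Z' = p.roots.toFinset := Finset.eq_of_subset_of_card_le hsub
      ((Multiset.toFinset_card_le _).trans ((card_roots' p).trans hcard.ge))
    rw [this, Multiset.mem_toFinset, mem_roots hne]
    exact hy
  exact isUnit_sub fun h => hne (hinj' (hmem z hz) (hmem w hw) h)

variable (W : WeierstrassCurve R)

theorem shift_b (r : R) :
    ((⟨1, r, 0, 0⟩ : VariableChange R) • W).b₆ = W.Ψ₂Sq.eval r ∧
      ((⟨1, r, 0, 0⟩ : VariableChange R) • W).b₈ = W.Ψ₃.eval r := by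
  refine ⟨?_, ?_⟩
  · rw [variableChange_b₆]; simp [WeierstrassCurve.Ψ₂Sq]; ring
  · rw [variableChange_b₈]; simp [WeierstrassCurve.Ψ₃]; ring

theorem derivative_Ψ₃ : derivative W.Ψ₃ = C 3 * W.Ψ₂Sq := by
  simp only [WeierstrassCurve.Ψ₃, WeierstrassCurve.Ψ₂Sq, derivative_add, derivative_mul, derivative_X_pow,
    derivative_C, derivative_X, derivative_ofNat, map_mul, map_ofNat, Nat.cast_ofNat]
  ring

theorem eval_derivative_Ψ₂Sq (r : R) :
    (derivative W.Ψ₂Sq).eval r = 2 * ((⟨1, r, 0, 0⟩ : VariableChange R) • W).b₄ := by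
  rw [variableChange_b₄]
  simp [WeierstrassCurve.Ψ₂Sq, derivative_X_pow]
  ring

section field

variable {κ : Type u} [Field κ] (V : WeierstrassCurve κ)

theorem Δ_eq_zero_of (h6 : V.b₆ = 0) (h4 : V.b₄ = 0) (h8 : V.b₈ = 0) : V.Δ = 0 := by
  simp [WeierstrassCurve.Δ, h6, h4, h8]

theorem simple_Ψ₂Sq (h2 : (2 : κ) ≠ 0) (hΔ : V.Δ ≠ 0) (x : κ) (hx : V.Ψ₂Sq.eval x = 0) :
    (derivative V.Ψ₂Sq).eval x ≠ 0 := fun hd => by
  let C₀ : VariableChange κ := ⟨1, x, 0, 0⟩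
  have h6 : (C₀ • V).b₆ = 0 := (shift_b V x).1.trans hx
  rw [eval_derivative_Ψ₂Sq, mul_eq_zero] at hd
  have h4 : (C₀ • V).b₄ = 0 := hd.resolve_left h2
  have h8 : (C₀ • V).b₈ = 0 := by
    have := (C₀ • V).b_relation
    rw [h6, h4] at this
    simp only [mul_zero, ne_eq, OfNat.ofNat_ne_zero, not_false_eq_true, zero_pow, sub_zero, mul_eq_zero] at this
    refine this.resolve_left ?_
    rw [show (4 : κ) = 2 * 2 by norm_num]
    exact mul_ne_zero h2 h2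
  have := Δ_eq_zero_of _ h6 h4 h8
  rw [variableChange_Δ] at this
  exact hΔ (by simpa [C₀] using this)

theorem simple_Ψ₃ (h3 : (3 : κ) ≠ 0) (hΔ : V.Δ ≠ 0) (x : κ) (hx : V.Ψ₃.eval x = 0) :
    V.Ψ₂Sq.eval x ≠ 0 := fun hd => by
  let C₀ : VariableChange κ := ⟨1, x, 0, 0⟩
  have h6 : (C₀ • V).b₆ = 0 := (shift_b V x).1.trans hd
  have h8 : (C₀ • V).b₈ = 0 := (shift_b V x).2.trans hx
  have h4 : (C₀ • V).b₄ = 0 := by
    have := (C₀ • V).b_relation
    rw [h6, h8] at this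
    simpa using this.symm
  have := Δ_eq_zero_of _ h6 h4 h8
  rw [variableChange_Δ] at this
  exact hΔ (by simpa [C₀] using this)

theorem eval_Ψ₂Sq_vc (C₀ : VariableChange κ) (x : κ) :
    (C₀.u : κ) ^ 6 * (C₀ • V).Ψ₂Sq.eval x = V.Ψ₂Sq.eval ((C₀.u : κ) ^ 2 * x + C₀.r) := by
  have h : (C₀.u : κ) ≠ 0 := C₀.u.ne_zero
  simp only [WeierstrassCurve.Ψ₂Sq, variableChange_b₂, variableChange_b₄, variableChange_b₆, eval_add,
    eval_mul, eval_pow, eval_C, eval_X, map_mul, eval_ofNat, Units.val_inv_eq_inv_val]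
  field_simp
  ring

theorem eval_Ψ₃_vc (C₀ : VariableChange κ) (x : κ) :
    (C₀.u : κ) ^ 8 * (C₀ • V).Ψ₃.eval x = V.Ψ₃.eval ((C₀.u : κ) ^ 2 * x + C₀.r) := by
  have h : (C₀.u : κ) ≠ 0 := C₀.u.ne_zero
  simp only [WeierstrassCurve.Ψ₃, variableChange_b₂, variableChange_b₄, variableChange_b₆, variableChange_b₈,
    eval_add, eval_mul, eval_pow, eval_C, eval_X, map_mul, eval_ofNat, Units.val_inv_eq_inv_val]
  field_simp
  ring

end field

/-- The quadratic in `y` over a point `x`. -/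
noncomputable def yPoly (x : R) : R[X] :=
  X ^ 2 + C (W.a₁ * x + W.a₃) * X - C (x ^ 3 + W.a₂ * x ^ 2 + W.a₄ * x + W.a₆)

theorem eval_yPoly_map {S : Type u} [CommRing S] (f : R →+* S) (x : R) (y : S) :
    ((yPoly W x).map f).eval y = y ^ 2 + ((W.map f).a₁ * f x + (W.map f).a₃) * y -
      (f x ^ 3 + (W.map f).a₂ * f x ^ 2 + (W.map f).a₄ * f x + (W.map f).a₆) := by
  simp [yPoly]

theorem eval_yPoly_vc {L : Type u} [Field L] (V : WeierstrassCurve L) (C₀ : VariableChange L) (x y : L) :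
    (C₀.u : L) ^ 6 * (y ^ 2 + ((C₀ • V).a₁ * x + (C₀ • V).a₃) * y -
      (x ^ 3 + (C₀ • V).a₂ * x ^ 2 + (C₀ • V).a₄ * x + (C₀ • V).a₆)) =
    ((C₀.u : L) ^ 3 * y + C₀.s * (C₀.u : L) ^ 2 * x + C₀.t) ^ 2 +
      (V.a₁ * ((C₀.u : L) ^ 2 * x + C₀.r) + V.a₃) * ((C₀.u : L) ^ 3 * y + C₀.s * (C₀.u : L) ^ 2 * x + C₀.t) -
      (((C₀.u : L) ^ 2 * x + C₀.r) ^ 3 + V.a₂ * ((C₀.u : L) ^ 2 * x + C₀.r) ^ 2 +
        V.a₄ * ((C₀.u : L) ^ 2 * x + C₀.r) + V.a₆) := by
  have h : (C₀.u : L) ≠ 0 := C₀.u.ne_zero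
  simp only [variableChange_a₁, variableChange_a₂, variableChange_a₃, variableChange_a₄, variableChange_a₆,
    Units.val_inv_eq_inv_val]
  field_simp
  ring

theorem descend {L : Type u} [Field L] (φ : R →+* L) (hφ : Function.Injective φ) (W₁ W₂ : WeierstrassCurve R)
    (C₀ : VariableChange L) (hC : C₀ • W₁.map φ = W₂.map φ) {u : Rˣ} {r s t : R}
    (hu : φ u = C₀.u) (hr : φ r = C₀.r) (hs : φ s = C₀.s) (ht : φ t = C₀.t) :
    ∃ C : VariableChange R, C • W₁ = W₂ := by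
  refine ⟨⟨u, r, s, t⟩, WeierstrassCurve.map_injective hφ ?_⟩
  show ((⟨u, r, s, t⟩ : VariableChange R) • W₁).map φ = W₂.map φ
  rw [← hC, ← WeierstrassCurve.map_variableChange]
  congr 1
  exact VariableChange.ext (Units.ext hu) hr hs ht

section main

variable [IsDomain R] [HenselianLocalRing R] [IsAlgClosed (IsLocalRing.ResidueField R)]

/-- Two roots with residues distinct. -/
theorem exists_two_roots {p : R[X]} (hp : Sep p) (hd : 2 ≤ p.natDegree) :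
    ∃ a b : R, p.eval a = 0 ∧ p.eval b = 0 ∧ IsUnit (a - b) := by
  obtain ⟨Z, hcard, hZ, -⟩ := exists_roots hp
  obtain ⟨a, ha, b, hb, hne⟩ := Finset.one_lt_card.1 (show 1 < Z.card by omega)
  exact ⟨a, b, hZ a ha, hZ b hb, isUnit_root_sub hp (hZ a ha) (hZ b hb) hne⟩

theorem of_two {half : R} (hh : 2 * half = 1) (W₁ W₂ : WeierstrassCurve R) (h1 : IsUnit W₁.Δ) (h2 : IsUnit W₂.Δ)
    {L : Type u} [Field L] (φ : R →+* L) (hφ : Function.Injective φ)
    (C₀ : VariableChange L) (hC : C₀ • W₁.map φ = W₂.map φ) : ∃ C : VariableChange R, C • W₁ = W₂ := by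
  let ρ := IsLocalRing.residue R
  have h2k : (2 : IsLocalRing.ResidueField R) ≠ 0 := by
    rw [← map_ofNat ρ 2]; exact ((IsUnit.of_mul_eq_one _ hh).map ρ).ne_zero
  have h4 : IsUnit (4 : R) := by
    rw [show (4 : R) = 2 * 2 by norm_num]; exact (IsUnit.of_mul_eq_one _ hh).mul (IsUnit.of_mul_eq_one _ hh)
  have hsep : ∀ W : WeierstrassCurve R, IsUnit W.Δ → Sep W.Ψ₂Sq ∧ 2 ≤ W.Ψ₂Sq.natDegree := by
    intro W hW
    refine ⟨⟨by rw [W.leadingCoeff_Ψ₂Sq h4.ne_zero]; exact h4, fun κ hκ => ?_⟩, ?_⟩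
    · rw [← derivative_map, ← W.map_Ψ₂Sq]
      rw [← W.map_Ψ₂Sq] at hκ
      exact simple_Ψ₂Sq _ h2k (by rw [WeierstrassCurve.map_Δ]; exact (hW.map ρ).ne_zero) κ hκ
    · rw [W.natDegree_Ψ₂Sq h4.ne_zero]; norm_num
  obtain ⟨x₁, x₂, hx₁, hx₂, hd⟩ := exists_two_roots (hsep W₂ h2).1 (hsep W₂ h2).2
  have himage : ∀ x : R, W₂.Ψ₂Sq.eval x = 0 →
      ∃ e : R, W₁.Ψ₂Sq.eval e = 0 ∧ φ e = (C₀.u : L) ^ 2 * φ x + C₀.r := by
    intro x hx
    refine exists_eq_of_root (hsep W₁ h1).1 φ hφ ?_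
    rw [← WeierstrassCurve.map_Ψ₂Sq, ← eval_Ψ₂Sq_vc, hC, WeierstrassCurve.map_Ψ₂Sq, eval_map,
      eval₂_at_apply, hx, map_zero, mul_zero]
  obtain ⟨e₁, he₁, he₁'⟩ := himage x₁ hx₁
  obtain ⟨e₂, he₂, he₂'⟩ := himage x₂ hx₂
  obtain ⟨d, hdu⟩ := hd
  let U : R := (e₁ - e₂) * ↑d⁻¹
  have hU : φ U = (C₀.u : L) ^ 2 := by
    have hdd : φ ↑d⁻¹ * (φ x₁ - φ x₂) = 1 := by rw [← map_sub, ← hdu, ← map_mul, Units.inv_mul, map_one]
    simp only [U, map_mul, map_sub, he₁', he₂']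
    linear_combination (C₀.u : L) ^ 2 * hdd
  have hne : e₁ ≠ e₂ := fun h => by
    have : φ U = 0 := by simp [U, h]
    rw [hU] at this
    exact C₀.u.ne_zero (pow_eq_zero_iff two_ne_zero |>.1 this)
  have hUu : IsUnit U := (isUnit_root_sub (hsep W₁ h1).1 he₁ he₂ hne).mul d⁻¹.isUnit
  have hsep' : Sep (X ^ 2 - C U) := by
    refine ⟨by rw [(monic_X_pow_sub_C U two_ne_zero).leadingCoeff]; exact isUnit_one, fun κ hκ => ?_⟩
    simp only [Polynomial.map_sub, Polynomial.map_pow, map_X, map_C, eval_sub, eval_pow, eval_X, eval_C] at hκ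
    have h0 : κ ≠ 0 := fun h => (hUu.map ρ).ne_zero (by simpa [h, sub_eq_zero, eq_comm] using hκ)
    simp [derivative_pow, map_ofNat, h2k, h0]
  obtain ⟨w, hw, hw'⟩ := exists_eq_of_root hsep' φ hφ (e := (C₀.u : L)) (by simp [hU])
  have hwu : IsUnit w := isUnit_of_mul_isUnit_left (y := w) (by
    rw [show w * w = U by simpa [sub_eq_zero, sq] using hw]; exact hUu)
  obtain ⟨v, rfl⟩ := hwu
  have hr : φ (e₁ - U * x₁) = C₀.r := by rw [map_sub, map_mul, hU, he₁']; ring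
  let s : R := half * (↑v * W₂.a₁ - W₁.a₁)
  have hh' : φ 2 * φ half = 1 := by rw [← map_mul, hh, map_one]
  rw [map_ofNat] at hh'
  have huu : (C₀.u : L) * ((C₀.u⁻¹ : Lˣ) : L) = 1 := C₀.u.mul_inv
  have e1 := congrArg WeierstrassCurve.a₁ hC
  simp only [variableChange_a₁, WeierstrassCurve.map_a₁] at e1
  have hs : φ s = C₀.s := by
    simp only [s, map_mul, map_sub, hw', ← e1]
    linear_combination φ half * (φ W₁.a₁ + 2 * C₀.s) * huu + C₀.s * hh'
  have e3 := congrArg WeierstrassCurve.a₃ hC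
  simp only [variableChange_a₃, WeierstrassCurve.map_a₃, WeierstrassCurve.map_a₁] at e3
  refine descend φ hφ W₁ W₂ C₀ hC hw' hr hs
    (t := half * ((v : R) ^ 3 * W₂.a₃ - W₁.a₃ - (e₁ - U * x₁) * W₁.a₁)) ?_
  rw [map_mul, map_sub, map_sub, map_mul, map_mul, hr, map_pow, hw', ← e3]
  linear_combination φ half * (φ W₁.a₃ + C₀.r * φ W₁.a₁ + 2 * C₀.t) *
    ((C₀.u : L) ^ 2 * ((C₀.u⁻¹ : Lˣ) : L) ^ 2 + (C₀.u : L) * ((C₀.u⁻¹ : Lˣ) : L) + 1) * huu + C₀.t * hh'

theorem of_residue_char_two (h2R : IsLocalRing.residue R 2 = 0) (W₁ W₂ : WeierstrassCurve R)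
    (h1 : IsUnit W₁.Δ) (h2 : IsUnit W₂.Δ) {L : Type u} [Field L] (φ : R →+* L) (hφ : Function.Injective φ)
    (C₀ : VariableChange L) (hC : C₀ • W₁.map φ = W₂.map φ) : ∃ C : VariableChange R, C • W₁ = W₂ := by
  let ρ := IsLocalRing.residue R
  have h2k : (2 : IsLocalRing.ResidueField R) = 0 := by rw [← map_ofNat ρ 2]; exact h2R
  have h3k : (3 : IsLocalRing.ResidueField R) ≠ 0 := by
    rw [show (3 : IsLocalRing.ResidueField R) = 2 + 1 by norm_num, h2k, zero_add]; exact one_ne_zero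
  have h3 : IsUnit (3 : R) := (IsLocalRing.residue_ne_zero_iff_isUnit _).1 (by rwa [map_ofNat])
  have hsep : ∀ W : WeierstrassCurve R, IsUnit W.Δ → Sep W.Ψ₃ ∧ 2 ≤ W.Ψ₃.natDegree := by
    intro W hW
    refine ⟨⟨by rw [W.leadingCoeff_Ψ₃ h3.ne_zero]; exact h3, fun κ hκ => ?_⟩, ?_⟩
    · rw [← derivative_map, ← W.map_Ψ₃, derivative_Ψ₃, eval_mul, eval_C]
      rw [← W.map_Ψ₃] at hκ
      exact mul_ne_zero h3k
        (simple_Ψ₃ _ h3k (by rw [WeierstrassCurve.map_Δ]; exact (hW.map ρ).ne_zero) κ hκ)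
    · rw [W.natDegree_Ψ₃ h3.ne_zero]; norm_num
  have hy : ∀ W : WeierstrassCurve R, IsUnit W.Δ → ∀ x : R, W.Ψ₃.eval x = 0 →
      IsUnit (W.a₁ * x + W.a₃) ∧ Sep (yPoly W x) := by
    intro W hW x hx
    have hne : ρ (W.a₁ * x + W.a₃) ≠ 0 := by
      intro h0
      refine simple_Ψ₃ (W.map ρ) h3k (by rw [WeierstrassCurve.map_Δ]; exact (hW.map ρ).ne_zero) (ρ x) ?_ ?_
      · rw [WeierstrassCurve.map_Ψ₃, eval_map, eval₂_at_apply, hx, map_zero]
      · have : (W.map ρ).Ψ₂Sq.eval (ρ x) = ρ (W.a₁ * x + W.a₃) ^ 2 +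
            2 * (2 * (ρ x ^ 3 + ρ W.a₂ * ρ x ^ 2 + ρ W.a₄ * ρ x + ρ W.a₆)) := by
          simp [WeierstrassCurve.Ψ₂Sq, WeierstrassCurve.b₂, WeierstrassCurve.b₄, WeierstrassCurve.b₆]
          ring
        rw [this, h0, h2k]
        simp
    refine ⟨(IsLocalRing.residue_ne_zero_iff_isUnit _).1 hne, ⟨?_, fun κ _ => ?_⟩⟩
    · rw [show (yPoly W x).leadingCoeff = 1 by
        show (yPoly W x).Monic
        unfold yPoly; monicity!]
      exact isUnit_one
    · simpa [yPoly, derivative_pow, map_ofNat, h2k] using hne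
  have hydeg : ∀ W : WeierstrassCurve R, ∀ x : R, 2 ≤ (yPoly W x).natDegree := fun W x => by
    have : (yPoly W x).natDegree = 2 := by unfold yPoly; compute_degree!
    rw [this]
  obtain ⟨x₁, x₂, hx₁, hx₂, hd⟩ := exists_two_roots (hsep W₂ h2).1 (hsep W₂ h2).2
  have himage : ∀ x : R, W₂.Ψ₃.eval x = 0 →
      ∃ e : R, W₁.Ψ₃.eval e = 0 ∧ φ e = (C₀.u : L) ^ 2 * φ x + C₀.r := by
    intro x hx
    refine exists_eq_of_root (hsep W₁ h1).1 φ hφ ?_
    rw [← WeierstrassCurve.map_Ψ₃, ← eval_Ψ₃_vc, hC, WeierstrassCurve.map_Ψ₃, eval_map,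
      eval₂_at_apply, hx, map_zero, mul_zero]
  obtain ⟨e₁, he₁, he₁'⟩ := himage x₁ hx₁
  obtain ⟨e₂, he₂, he₂'⟩ := himage x₂ hx₂
  have hyimage : ∀ (x e : R), W₁.Ψ₃.eval e = 0 → φ e = (C₀.u : L) ^ 2 * φ x + C₀.r →
      ∀ y : R, (yPoly W₂ x).eval y = 0 →
        ∃ Y : R, φ Y = (C₀.u : L) ^ 3 * φ y + C₀.s * (C₀.u : L) ^ 2 * φ x + C₀.t := by
    intro x e he hex y hy0
    obtain ⟨Y, -, hY⟩ := exists_eq_of_root (hy W₁ h1 e he).2 φ hφ
      (e := (C₀.u : L) ^ 3 * φ y + C₀.s * (C₀.u : L) ^ 2 * φ x + C₀.t) (by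
        rw [eval_yPoly_map, hex, ← eval_yPoly_vc, hC, ← eval_yPoly_map, eval_map, eval₂_at_apply, hy0,
          map_zero, mul_zero])
    exact ⟨Y, hY⟩
  obtain ⟨y₁, y₁', hy₁, hy₁', hdy⟩ := exists_two_roots (hy W₂ h2 x₁ hx₁).2 (hydeg W₂ x₁)
  obtain ⟨y₂, -, hy₂, -, -⟩ := exists_two_roots (hy W₂ h2 x₂ hx₂).2 (hydeg W₂ x₂)
  obtain ⟨Y₁, hY₁⟩ := hyimage x₁ e₁ he₁ he₁' y₁ hy₁
  obtain ⟨Y₁', hY₁'⟩ := hyimage x₁ e₁ he₁ he₁' y₁' hy₁'
  obtain ⟨Y₂, hY₂⟩ := hyimage x₂ e₂ he₂ he₂' y₂ hy₂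
  obtain ⟨d, hdu⟩ := hd
  obtain ⟨dy, hdyu⟩ := hdy
  let U : R := (e₁ - e₂) * ↑d⁻¹
  have hdd : φ ↑d⁻¹ * (φ x₁ - φ x₂) = 1 := by rw [← map_sub, ← hdu, ← map_mul, Units.inv_mul, map_one]
  have hU : φ U = (C₀.u : L) ^ 2 := by
    simp only [U, map_mul, map_sub, he₁', he₂']
    linear_combination (C₀.u : L) ^ 2 * hdd
  have hne : e₁ ≠ e₂ := fun h => by
    have : φ U = 0 := by simp [U, h]
    rw [hU] at this
    exact C₀.u.ne_zero (pow_eq_zero_iff two_ne_zero |>.1 this)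
  obtain ⟨Uu, hUu⟩ : IsUnit U := (isUnit_root_sub (hsep W₁ h1).1 he₁ he₂ hne).mul d⁻¹.isUnit
  let U3 : R := (Y₁ - Y₁') * ↑dy⁻¹
  have hU3 : φ U3 = (C₀.u : L) ^ 3 := by
    have hdd' : φ ↑dy⁻¹ * (φ y₁ - φ y₁') = 1 := by rw [← map_sub, ← hdyu, ← map_mul, Units.inv_mul, map_one]
    simp only [U3, map_mul, map_sub, hY₁, hY₁']
    linear_combination (C₀.u : L) ^ 3 * hdd'
  let w : R := U3 * ↑Uu⁻¹
  have hUinv : φ ↑Uu⁻¹ * (C₀.u : L) ^ 2 = 1 := by rw [← hU, ← hUu, ← map_mul, Units.inv_mul, map_one]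
  have hw : φ w = C₀.u := by
    simp only [w, map_mul, hU3]
    linear_combination (C₀.u : L) * hUinv
  have hw2 : w * w = U := hφ (by rw [map_mul, hw, hU, sq])
  obtain ⟨v, hv⟩ : IsUnit w := isUnit_of_mul_isUnit_left (y := w) (hw2 ▸ ⟨Uu, hUu⟩)
  have hr : φ (e₁ - U * x₁) = C₀.r := by rw [map_sub, map_mul, hU, he₁']; ring
  let s : R := (Y₁ - Y₂ - U3 * (y₁ - y₂)) * ↑Uu⁻¹ * ↑d⁻¹
  have hs : φ s = C₀.s := by
    simp only [s, map_mul, map_sub, hY₁, hY₂, hU3]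
    linear_combination C₀.s * (φ x₁ - φ x₂) * φ ↑d⁻¹ * hUinv + C₀.s * hdd
  refine descend φ hφ W₁ W₂ C₀ hC (u := v) (by rw [hv, hw]) hr hs
    (t := Y₁ - U3 * y₁ - s * U * x₁) ?_
  simp only [map_sub, map_mul, hY₁, hU3, hs, hU]
  ring

/-- Curves which become isomorphic over an extension field are isomorphic. -/
theorem exists_of_field (W₁ W₂ : WeierstrassCurve R) (h1 : IsUnit W₁.Δ) (h2 : IsUnit W₂.Δ)
    {L : Type u} [Field L] (φ : R →+* L) (hφ : Function.Injective φ)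
    (C₀ : VariableChange L) (hC : C₀ • W₁.map φ = W₂.map φ) : ∃ C : VariableChange R, C • W₁ = W₂ := by
  by_cases h : IsLocalRing.residue R 2 = 0
  · exact of_residue_char_two h W₁ W₂ h1 h2 φ hφ C₀ hC
  · obtain ⟨half, hh⟩ := ((IsLocalRing.residue_ne_zero_iff_isUnit _).1 h).exists_right_inv
    exact of_two hh W₁ W₂ h1 h2 φ hφ C₀ hC

end main

end Groth.Agent.H26Ell.Descent
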