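import Mathlib

/-!
# Elliptic curves with equal invariant away from `0` and `1728` agree étale locally
-/

set_option autoImplicit false
set_option linter.style.haveILetI false

universe u

open Polynomial WeierstrassCurve

namespace Groth.Agent.H26Ell

variable {A : Type u} [CommRing A] {Ω : Type u} [Field Ω]

/-- Isomorphic on an étale neighbourhood of the point `ψ`. -/
def Good (ψ : A →+* Ω) (W₁ W₂ : WeierstrassCurve A) : Prop :=
  ∃ (B : Type u) (_ : CommRing B) (_ : Algebra A B) (ψ' : B →+* Ω), Algebra.Etale A B ∧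
    ψ'.comp (algebraMap A B) = ψ ∧
    ∃ C : VariableChange B, C • W₁.map (algebraMap A B) = W₂.map (algebraMap A B)

theorem good_of_eq (ψ : A →+* Ω) {W₁ W₂ : WeierstrassCurve A} (C : VariableChange A) (h : C • W₁ = W₂) :
    Good ψ W₁ W₂ :=
  ⟨A, inferInstance, Algebra.id A, ψ, inferInstance, RingHom.comp_id ψ, C, by simpa using h⟩

theorem good_of_vc (ψ : A →+* Ω) {W₁ W₂ : WeierstrassCurve A} (C₁ C₂ : VariableChange A)
    (h : Good ψ (C₁ • W₁) (C₂ • W₂)) : Good ψ W₁ W₂ := by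
  obtain ⟨B, _, _, ψ', hB, hψ, C, hC⟩ := h
  refine ⟨B, _, _, ψ', hB, hψ, (C₂.map (algebraMap A B))⁻¹ * C * C₁.map (algebraMap A B), ?_⟩
  rw [mul_smul, mul_smul, WeierstrassCurve.map_variableChange, hC, ← WeierstrassCurve.map_variableChange,
    inv_smul_smul]

theorem good_of_ext (ψ : A →+* Ω) {W₁ W₂ : WeierstrassCurve A} {B : Type u} [CommRing B] [Algebra A B]
    [Algebra.Etale A B] (ψ' : B →+* Ω) (hψ : ψ'.comp (algebraMap A B) = ψ)
    (h : Good ψ' (W₁.map (algebraMap A B)) (W₂.map (algebraMap A B))) : Good ψ W₁ W₂ := by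
  obtain ⟨D, _, _, ψ'', hD, hψ', C, hC⟩ := h
  letI : Algebra A D := ((algebraMap B D).comp (algebraMap A B)).toAlgebra
  haveI : IsScalarTower A B D := IsScalarTower.of_algebraMap_eq fun _ => rfl
  haveI := hD
  refine ⟨D, _, _, ψ'', Algebra.Etale.comp A B D, ?_, C, ?_⟩
  · rw [← hψ, ← hψ']
    rfl
  · rw [WeierstrassCurve.map_map, WeierstrassCurve.map_map] at hC
    exact hC

/-- A standard étale neighbourhood on which a simple root lifts. -/
theorem exists_root (ψ : A →+* Ω) (f h : A[X]) (hf : f.Monic) (ω : Ω) (h1 : f.eval₂ ψ ω = 0)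
    (h2 : (derivative f).eval₂ ψ ω ≠ 0) (h3 : h.eval₂ ψ ω ≠ 0) :
    ∃ (B : Type u) (_ : CommRing B) (_ : Algebra A B) (ψ' : B →+* Ω), Algebra.Etale A B ∧
      ψ'.comp (algebraMap A B) = ψ ∧
      ∃ x : B, aeval x f = 0 ∧ IsUnit (aeval x h) ∧ IsUnit (aeval x (derivative f)) ∧ ψ' x = ω := by
  letI := ψ.toAlgebra
  let P : StandardEtalePair A := ⟨f, hf, derivative f * h, ⟨h, 0, 1, by simp⟩⟩
  have hm : P.HasMap ω := by
    refine ⟨h1, ?_⟩
    show IsUnit (aeval ω (derivative f * h))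
    rw [map_mul]
    exact (mul_ne_zero h2 h3).isUnit
  refine ⟨P.Ring, inferInstance, inferInstance, (P.lift ω hm).toRingHom, inferInstance,
    (P.lift ω hm).comp_algebraMap, P.X, StandardEtalePair.hasMap_X.1, ?_, ?_, P.lift_X ω hm⟩
  · have := (StandardEtalePair.hasMap_X (P := P)).2
    change IsUnit (aeval P.X (derivative f * h)) at this
    rw [map_mul] at this
    exact isUnit_of_mul_isUnit_right this
  · exact (StandardEtalePair.hasMap_X (P := P)).isUnit_derivative_f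

/-- An element invertible at the point becomes a unit on a neighbourhood. -/
theorem exists_unit (ψ : A →+* Ω) (a : A) (ha : ψ a ≠ 0) :
    ∃ (B : Type u) (_ : CommRing B) (_ : Algebra A B) (ψ' : B →+* Ω), Algebra.Etale A B ∧
      ψ'.comp (algebraMap A B) = ψ ∧ IsUnit (algebraMap A B a) := by
  obtain ⟨B, _, _, ψ', hB, hψ, x, -, hu, -, -⟩ :=
    exists_root ψ X (C a) monic_X 0 (by simp) (by simp) (by simpa using ha)
  exact ⟨B, _, _, ψ', hB, hψ, by simpa using hu⟩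

/-- A root of a quadratic whose leading coefficient vanishes at the point. -/
theorem exists_quad_root (ψ : A →+* Ω) (a b c : A) (ha : ψ a = 0) (hb : IsUnit b) :
    ∃ (B : Type u) (_ : CommRing B) (_ : Algebra A B) (ψ' : B →+* Ω), Algebra.Etale A B ∧
      ψ'.comp (algebraMap A B) = ψ ∧
      ∃ x : B, algebraMap A B a * x ^ 2 + algebraMap A B b * x + algebraMap A B c = 0 := by
  obtain ⟨b, rfl⟩ := hb
  obtain ⟨B, _, _, ψ', hB, hψ, w, hw, hu, -, -⟩ :=
    exists_root ψ (X ^ 2 - X + C (a * c * ↑b⁻¹ * ↑b⁻¹)) X (by monicity!) 1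
      (by simp [ha]) (by simp [derivative_pow, map_ofNat]; norm_num) (by simp)
  simp only [aeval_X] at hu
  obtain ⟨w, rfl⟩ := hu
  refine ⟨B, _, _, ψ', hB, hψ, - (algebraMap A B (c * ↑b⁻¹) * ↑w⁻¹), ?_⟩
  simp only [map_add, map_sub, map_pow, aeval_X, aeval_C, map_mul] at hw
  have hbb : algebraMap A B ↑b * algebraMap A B ↑b⁻¹ = 1 := by rw [← map_mul, Units.mul_inv, map_one]
  have hww : (w : B) * ↑w⁻¹ = 1 := Units.mul_inv w
  simp only [map_mul]
  linear_combination algebraMap A B c * (↑w⁻¹ : B) * ↑w⁻¹ * hw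
    - algebraMap A B c * ↑w⁻¹ * hbb
    - algebraMap A B c * ((w : B) * ↑w⁻¹ + 1) * hww
    + algebraMap A B c * ↑w⁻¹ * hww

theorem c₄_eq_of (W : WeierstrassCurve A) [W.IsElliptic] : W.j * W.Δ = W.c₄ ^ 3 := by
  rw [WeierstrassCurve.j, ← WeierstrassCurve.coe_Δ', mul_comm, ← mul_assoc, Units.mul_inv, one_mul]

theorem c₆_eq_of (W : WeierstrassCurve A) [W.IsElliptic] : (W.j - 1728) * W.Δ = W.c₆ ^ 2 := by
  rw [sub_mul, c₄_eq_of, WeierstrassCurve.c_relation]
  ring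

/-- Hypotheses on a pair of curves. -/
structure Pair (W₁ W₂ : WeierstrassCurve A) : Prop where
  hΔ₁ : IsUnit W₁.Δ
  hΔ₂ : IsUnit W₂.Δ
  hc₁ : IsUnit W₁.c₄
  hc₂ : IsUnit W₂.c₄
  hd₁ : IsUnit W₁.c₆
  hd₂ : IsUnit W₂.c₆
  hj : W₁.c₄ ^ 3 * W₂.Δ = W₂.c₄ ^ 3 * W₁.Δ

theorem Pair.map {W₁ W₂ : WeierstrassCurve A} (h : Pair W₁ W₂) {B : Type u} [CommRing B] (f : A →+* B) :
    Pair (W₁.map f) (W₂.map f) where
  hΔ₁ := by rw [WeierstrassCurve.map_Δ]; exact h.hΔ₁.map f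
  hΔ₂ := by rw [WeierstrassCurve.map_Δ]; exact h.hΔ₂.map f
  hc₁ := by rw [WeierstrassCurve.map_c₄]; exact h.hc₁.map f
  hc₂ := by rw [WeierstrassCurve.map_c₄]; exact h.hc₂.map f
  hd₁ := by rw [WeierstrassCurve.map_c₆]; exact h.hd₁.map f
  hd₂ := by rw [WeierstrassCurve.map_c₆]; exact h.hd₂.map f
  hj := by simpa [WeierstrassCurve.map_Δ, WeierstrassCurve.map_c₄] using congrArg f h.hj

theorem Pair.vc {W₁ W₂ : WeierstrassCurve A} (h : Pair W₁ W₂) (C₁ C₂ : VariableChange A) :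
    Pair (C₁ • W₁) (C₂ • W₂) where
  hΔ₁ := by rw [variableChange_Δ]; exact (C₁.u⁻¹.isUnit.pow _).mul h.hΔ₁
  hΔ₂ := by rw [variableChange_Δ]; exact (C₂.u⁻¹.isUnit.pow _).mul h.hΔ₂
  hc₁ := by rw [variableChange_c₄]; exact (C₁.u⁻¹.isUnit.pow _).mul h.hc₁
  hc₂ := by rw [variableChange_c₄]; exact (C₂.u⁻¹.isUnit.pow _).mul h.hc₂
  hd₁ := by rw [variableChange_c₆]; exact (C₁.u⁻¹.isUnit.pow _).mul h.hd₁
  hd₂ := by rw [variableChange_c₆]; exact (C₂.u⁻¹.isUnit.pow _).mul h.hd₂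
  hj := by
    rw [variableChange_Δ, variableChange_c₄, variableChange_Δ, variableChange_c₄]
    linear_combination ((C₁.u⁻¹ : Aˣ) : A) ^ 12 * ((C₂.u⁻¹ : Aˣ) : A) ^ 12 * h.hj

/-! ### Characteristic two at the point -/

/-- The model `y² + xy = x³ + a x² + g`. -/
def m2 (a g : A) : WeierstrassCurve A := ⟨1, a, 0, 0, g⟩

theorem good_m2_same (ψ : A →+* Ω) (h2 : ψ 2 = 0) {a g g' : A} (h : Pair (m2 a g) (m2 a g')) :
    Good ψ (m2 a g) (m2 a g') := by
  let z : A := (1 + 4 * a) ^ 3 + 432 * (g + g')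
  have hz : ψ z ≠ 0 := by
    have h4 : ψ 4 = 0 := by rw [show (4 : A) = 2 * 2 by norm_num, map_mul, h2, zero_mul]
    have h432 : ψ 432 = 0 := by rw [show (432 : A) = 2 * 216 by norm_num, map_mul, h2, zero_mul]
    simp [z, map_add, map_mul, map_pow, h4, h432]
  obtain ⟨B, _, _, ψ', hB, hψ, hu⟩ := exists_unit ψ z hz
  haveI := hB
  refine good_of_ext ψ ψ' hψ (good_of_eq ψ' 1 ?_)
  rw [one_smul]
  have hk : (g - g') * z = 0 := by
    have hj := h.hj
    have hc : (m2 a g').c₄ = (m2 a g).c₄ := by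
      simp only [m2, WeierstrassCurve.c₄, WeierstrassCurve.b₂, WeierstrassCurve.b₄]
    rw [hc] at hj
    have := (h.hc₁.pow 3).mul_left_cancel hj
    simp only [m2, WeierstrassCurve.Δ, WeierstrassCurve.b₂, WeierstrassCurve.b₄, WeierstrassCurve.b₆,
      WeierstrassCurve.b₈] at this
    linear_combination this
  have hgg : algebraMap A B g = algebraMap A B g' :=
    sub_eq_zero.1 (hu.mul_left_eq_zero.1 (by rw [← map_sub, ← map_mul, hk, map_zero]))
  simp only [m2, WeierstrassCurve.map, hgg]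

theorem good_m2 [IsAlgClosed Ω] (ψ : A →+* Ω) (h2 : ψ 2 = 0) {a g a' g' : A}
    (h : Pair (m2 a g) (m2 a' g')) : Good ψ (m2 a g) (m2 a' g') := by
  have h4 : ψ 4 = 0 := by rw [show (4 : A) = 2 * 2 by norm_num, map_mul, h2, zero_mul]
  have hb : IsUnit (1 + 4 * a') := by
    have : (m2 a' g').c₄ = (1 + 4 * a') ^ 2 := by
      simp only [m2, WeierstrassCurve.c₄, WeierstrassCurve.b₂, WeierstrassCurve.b₄]; ring
    exact (isUnit_pow_iff two_ne_zero).1 (this ▸ h.hc₂)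
  obtain ⟨bu, hbu⟩ := hb
  let c : A := (a - a') * ↑bu⁻¹
  obtain ⟨ω, hω⟩ := IsAlgClosed.exists_root (X ^ 2 + X - C (ψ c))
    (by
      have hd : (X ^ 2 + X - C (ψ c)).degree = 2 := by compute_degree!
      rw [hd]; decide)
  simp only [IsRoot, eval_sub, eval_add, eval_pow, eval_X, eval_C] at hω
  have h2' : (2 : Ω) = 0 := by rw [← h2, map_ofNat]
  obtain ⟨B, _, _, ψ', hB, hψ, s, hs, hu, -, -⟩ := exists_root ψ (X ^ 2 + X - C c) (1 + C 2 * X) (by monicity!) ω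
    (by simpa using hω) (by simp [derivative_pow, h2]) (by simp [h2])
  haveI := hB
  refine good_of_ext ψ ψ' hψ ?_
  simp only [map_sub, map_add, map_pow, aeval_X, aeval_C, map_mul, map_one, map_ofNat] at hs hu
  obtain ⟨u, hu'⟩ := hu
  let f := algebraMap A B
  let C₁ : VariableChange B := ⟨u, 0, s, 0⟩
  have hbb : f ↑bu⁻¹ * (1 + 4 * f a') = 1 := by
    rw [show (1 : B) + 4 * f a' = f (1 + 4 * a') by simp [f, map_ofNat], ← hbu, ← map_mul, Units.inv_mul, map_one]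
  have hinv : ((u⁻¹ : Bˣ) : B) * (1 + 2 * s) = 1 := by rw [← hu']; exact Units.inv_mul u
  have hmap : ∀ x y : A, (m2 x y).map f = m2 (f x) (f y) := fun x y => by
    simp [m2, WeierstrassCurve.map]
  rw [hmap, hmap]
  have e : C₁ • m2 (f a) (f g) = m2 (f a') (((u⁻¹ : Bˣ) : B) ^ 6 * f g) := by
    ext
    · rw [variableChange_a₁]; simp [C₁, m2, hinv]
    · rw [variableChange_a₂]
      simp only [C₁, m2]
      have hs' : s ^ 2 + s - (f a - f a') * f ↑bu⁻¹ = 0 := by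
        rw [← map_sub, ← map_mul]; exact hs
      linear_combination (-(((u⁻¹ : Bˣ) : B)) ^ 2 * (1 + 4 * f a')) * hs'
        + f a' * (((u⁻¹ : Bˣ) : B) * (1 + 2 * s) + 1) * hinv
        - ((u⁻¹ : Bˣ) : B) ^ 2 * (f a - f a') * hbb
    · rw [variableChange_a₃]; simp [C₁, m2]
    · rw [variableChange_a₄]; simp [C₁, m2]
    · rw [variableChange_a₆]; simp [C₁, m2]
  have hp := (h.map f).vc C₁ 1
  rw [hmap, hmap, one_smul, e] at hp
  refine good_of_vc ψ' C₁ 1 ?_
  rw [one_smul, e]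
  refine good_m2_same ψ' ?_ hp
  rw [map_ofNat, h2']

/-- Normal form in characteristic two. -/
theorem exists_m2 (ψ : A →+* Ω) (h2 : ψ 2 = 0) (W : WeierstrassCurve A) (hc : IsUnit W.c₄) :
    ∃ (B : Type u) (_ : CommRing B) (_ : Algebra A B) (ψ' : B →+* Ω), Algebra.Etale A B ∧
      ψ'.comp (algebraMap A B) = ψ ∧ ∃ (C : VariableChange B) (a g : B), C • W.map (algebraMap A B) = m2 a g := by
  have ha1 : ψ W.a₁ ≠ 0 := fun h0 => by
    refine (hc.map ψ).ne_zero ?_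
    have h4 : ψ 4 = 0 := by rw [show (4 : A) = 2 * 2 by norm_num, map_mul, h2, zero_mul]
    have h24 : ψ 24 = 0 := by rw [show (24 : A) = 2 * 12 by norm_num, map_mul, h2, zero_mul]
    simp [WeierstrassCurve.c₄, WeierstrassCurve.b₂, h0, h4, h24]
  obtain ⟨B, _, _, ψ', hB, hψ, hu⟩ := exists_unit ψ W.a₁ ha1
  haveI := hB
  obtain ⟨v, hv⟩ := hu
  let W' := W.map (algebraMap A B)
  let C₁ : VariableChange B := ⟨v, 0, 0, 0⟩
  let V := C₁ • W'
  have hV1 : V.a₁ = 1 := by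
    rw [variableChange_a₁]; simp [C₁, W', ← hv]
  have h2' : ψ' 2 = 0 := by rw [map_ofNat]; rw [← h2, map_ofNat]
  have hq : ψ' (12 * V.a₃ - 4 * V.a₂ - 1) = -1 := by
    rw [map_sub, map_sub, map_mul, map_mul, show (12 : B) = 2 * 6 by norm_num,
      show (4 : B) = 2 * 2 by norm_num, map_mul, map_mul, h2']
    simp
  obtain ⟨B₁, _, _, ψ₁, hB₁, hψ₁, hu₁⟩ := exists_unit ψ' _ (by rw [hq]; simp : ψ' (12 * V.a₃ - 4 * V.a₂ - 1) ≠ 0)
  let f := algebraMap B B₁
  obtain ⟨D, _, _, ψ'', hD, hψ', t, ht⟩ := exists_quad_root ψ₁ (12 : B₁) _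
    (f (V.a₄ - 2 * V.a₃ * V.a₂ + 3 * V.a₃ ^ 2))
    (by rw [map_ofNat, ← map_ofNat ψ', show (12 : B) = 2 * 6 by norm_num, map_mul, h2', zero_mul]) hu₁
  letI : Algebra A B₁ := (f.comp (algebraMap A B)).toAlgebra
  haveI : IsScalarTower A B B₁ := IsScalarTower.of_algebraMap_eq fun _ => rfl
  haveI := hB₁
  haveI := Algebra.Etale.comp A B B₁
  let g := algebraMap B₁ D
  letI : Algebra A D := (g.comp (algebraMap A B₁)).toAlgebra
  haveI : IsScalarTower A B₁ D := IsScalarTower.of_algebraMap_eq fun _ => rfl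
  haveI := hD
  let V' := (V.map f).map g
  let C₂ : VariableChange D := ⟨1, -V'.a₃ - 2 * t, 0, t⟩
  have key : C₂ • V' = m2 (C₂ • V').a₂ (C₂ • V').a₆ := by
    ext
    · rw [variableChange_a₁]; simp [C₂, m2, V', hV1]
    · simp [m2]
    · rw [variableChange_a₃]; simp [C₂, m2, V', hV1]; ring
    · rw [variableChange_a₄]
      simp only [C₂, m2, V', WeierstrassCurve.map_a₁, WeierstrassCurve.map_a₂, WeierstrassCurve.map_a₃,
        WeierstrassCurve.map_a₄, hV1, map_one, inv_one, Units.val_one, one_pow, one_mul]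
      simp only [map_add, map_sub, map_mul, map_pow, map_ofNat, map_one, f] at ht
      simp only [f, g]
      linear_combination ht
    · simp [m2]
  refine ⟨D, _, _, ψ'', Algebra.Etale.comp A B₁ D, ?_, C₂ * (C₁.map f).map g, (C₂ • V').a₂, (C₂ • V').a₆, ?_⟩
  · rw [← hψ, ← hψ₁, ← hψ']
    rfl
  · have e : W.map (algebraMap A D) = (W'.map f).map g := by
      simp only [W', WeierstrassCurve.map_map]; rfl
    rw [e, mul_smul, WeierstrassCurve.map_variableChange, WeierstrassCurve.map_variableChange]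
    exact key

theorem good_char_two [IsAlgClosed Ω] (ψ : A →+* Ω) (h2 : ψ 2 = 0) {W₁ W₂ : WeierstrassCurve A}
    (h : Pair W₁ W₂) : Good ψ W₁ W₂ := by
  obtain ⟨B, _, _, ψ', hB, hψ, C₁, a, g, e₁⟩ := exists_m2 ψ h2 W₁ h.hc₁
  haveI := hB
  refine good_of_ext ψ ψ' hψ (good_of_vc ψ' C₁ 1 ?_)
  rw [one_smul, e₁]
  have h2' : ψ' 2 = 0 := by rw [map_ofNat]; rw [← h2, map_ofNat]
  obtain ⟨D, _, _, ψ'', hD, hψ', C₂, a', g', e₂⟩ := exists_m2 ψ' h2' (W₂.map (algebraMap A B)) (h.map _).hc₂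
  haveI := hD
  refine good_of_ext ψ' ψ'' hψ' (good_of_vc ψ'' 1 C₂ ?_)
  have hm : (m2 a g).map (algebraMap B D) = m2 (algebraMap B D a) (algebraMap B D g) := by
    simp [m2, WeierstrassCurve.map]
  have hp := (((h.map (algebraMap A B)).vc C₁ 1).map (algebraMap B D)).vc 1 C₂
  rw [one_smul, one_smul, e₁, hm, e₂] at hp
  rw [one_smul, e₂, hm]
  exact good_m2 ψ'' (by rw [map_ofNat]; rw [← h2', map_ofNat]) hp

/-! ### Characteristic three at the point -/

/-- The model `y² = x³ + a x² + g`. -/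
def m3 (a g : A) : WeierstrassCurve A := ⟨0, a, 0, 0, g⟩

theorem good_m3_same (ψ : A →+* Ω) (h3 : ψ 3 = 0) {a g g' : A} (h : Pair (m3 a g) (m3 a g')) :
    Good ψ (m3 a g) (m3 a g') := by
  let z : A := 4 * a ^ 3 + 27 * (g + g')
  have hc : ∀ y : A, (m3 a y).c₄ = 16 * a ^ 2 := fun y => by
    simp only [m3, WeierstrassCurve.c₄, WeierstrassCurve.b₂, WeierstrassCurve.b₄]; ring
  have hu16 : IsUnit (16 : A) := isUnit_of_mul_isUnit_left ((hc g) ▸ h.hc₁)
  have ha : IsUnit (a ^ 2) := isUnit_of_mul_isUnit_right ((hc g) ▸ h.hc₁)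
  have hz : ψ z ≠ 0 := by
    have h27 : ψ 27 = 0 := by rw [show (27 : A) = 3 * 9 by norm_num, map_mul, h3, zero_mul]
    have h4 : IsUnit (4 : A) := (isUnit_pow_iff two_ne_zero).1
      (show IsUnit ((4 : A) ^ 2) by norm_num; exact hu16)
    simp only [z, map_add, map_mul, h27, zero_mul, add_zero, map_pow]
    exact mul_ne_zero (h4.map ψ).ne_zero (pow_ne_zero _ (((isUnit_pow_iff two_ne_zero).1 ha).map ψ).ne_zero)
  obtain ⟨B, _, _, ψ', hB, hψ, hu⟩ := exists_unit ψ z hz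
  haveI := hB
  refine good_of_ext ψ ψ' hψ (good_of_eq ψ' 1 ?_)
  rw [one_smul]
  have hk : 16 * ((g - g') * z) = 0 := by
    have hj := h.hj
    rw [hc, hc] at hj
    have := (((hc g) ▸ h.hc₁ : IsUnit (16 * a ^ 2)).pow 3).mul_left_cancel hj
    simp only [m3, WeierstrassCurve.Δ, WeierstrassCurve.b₂, WeierstrassCurve.b₄, WeierstrassCurve.b₆,
      WeierstrassCurve.b₈] at this
    linear_combination this
  have hgg : algebraMap A B g = algebraMap A B g' :=
    sub_eq_zero.1 (hu.mul_left_eq_zero.1 (by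
      rw [← map_sub, ← map_mul, hu16.mul_right_eq_zero.1 hk, map_zero]))
  simp only [m3, WeierstrassCurve.map, hgg]

theorem good_m3 [IsAlgClosed Ω] (ψ : A →+* Ω) (h3 : ψ 3 = 0) (h2 : ψ 2 ≠ 0) {a g a' g' : A}
    (h : Pair (m3 a g) (m3 a' g')) : Good ψ (m3 a g) (m3 a' g') := by
  have hc : ∀ x y : A, (m3 x y).c₄ = 16 * x ^ 2 := fun x y => by
    simp only [m3, WeierstrassCurve.c₄, WeierstrassCurve.b₂, WeierstrassCurve.b₄]; ring
  have ha : IsUnit a := (isUnit_pow_iff two_ne_zero).1 (isUnit_of_mul_isUnit_right ((hc a g) ▸ h.hc₁))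
  have ha' : IsUnit a' := (isUnit_pow_iff two_ne_zero).1 (isUnit_of_mul_isUnit_right ((hc a' g') ▸ h.hc₂))
  obtain ⟨v, rfl⟩ := ha
  obtain ⟨v', rfl⟩ := ha'
  let c : A := ↑(v * v'⁻¹)
  obtain ⟨ω, hω⟩ := IsAlgClosed.exists_pow_nat_eq (ψ c) two_pos
  have hω0 : ω ≠ 0 := fun h0 => ((v * v'⁻¹).isUnit.map ψ).ne_zero (by
    show ψ c = 0
    rw [← hω, h0]; simp)
  have h2' : (2 : Ω) ≠ 0 := by rwa [← map_ofNat ψ 2]
  obtain ⟨B, _, _, ψ', hB, hψ, u, hu2, hu, -, -⟩ := exists_root ψ (X ^ 2 - C c) X (by monicity!) ω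
    (by simp [hω]) (by simp [derivative_pow, map_ofNat, h2', hω0]) (by simp [hω0])
  haveI := hB
  refine good_of_ext ψ ψ' hψ ?_
  simp only [map_sub, map_pow, aeval_X, aeval_C] at hu2 hu
  obtain ⟨u, rfl⟩ := hu
  let f := algebraMap A B
  let C₁ : VariableChange B := ⟨u, 0, 0, 0⟩
  have hmap : ∀ x y : A, (m3 x y).map f = m3 (f x) (f y) := fun x y => by
    simp [m3, WeierstrassCurve.map]
  rw [hmap, hmap]
  have e : C₁ • m3 (f v) (f g) = m3 (f v') (((u⁻¹ : Bˣ) : B) ^ 6 * f g) := by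
    ext
    · rw [variableChange_a₁]; simp [C₁, m3]
    · rw [variableChange_a₂]
      simp only [C₁, m3]
      have huu : ((u⁻¹ : Bˣ) : B) * u = 1 := Units.inv_mul u
      have hvv : f (v'⁻¹ : Aˣ) * f v' = 1 := by rw [← map_mul, Units.inv_mul, map_one]
      have hu2' : (u : B) ^ 2 - f v * f (v'⁻¹ : Aˣ) = 0 := by rw [← map_mul, ← Units.val_mul]; exact hu2
      linear_combination (-(((u⁻¹ : Bˣ) : B)) ^ 2 * f v') * hu2' - ((u⁻¹ : Bˣ) : B) ^ 2 * f v * hvv
        + f v' * (((u⁻¹ : Bˣ) : B) * u + 1) * huu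
    · rw [variableChange_a₃]; simp [C₁, m3]
    · rw [variableChange_a₄]; simp [C₁, m3]
    · rw [variableChange_a₆]; simp [C₁, m3]
  have hp := (h.map f).vc C₁ 1
  rw [hmap, hmap, one_smul, e] at hp
  refine good_of_vc ψ' C₁ 1 ?_
  rw [one_smul, e]
  exact good_m3_same ψ' (by rw [map_ofNat]; rw [← h3, map_ofNat]) hp

/-- Completing the square. -/
def sqVC (W : WeierstrassCurve A) (half : A) : VariableChange A := ⟨1, 0, -(half * W.a₁), -(half * W.a₃)⟩

theorem sqVC_a₁ (W : WeierstrassCurve A) (half : A) (hh : 2 * half = 1) : (sqVC W half • W).a₁ = 0 := by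
  rw [variableChange_a₁]; simp [sqVC]; linear_combination -W.a₁ * hh

theorem sqVC_a₃ (W : WeierstrassCurve A) (half : A) (hh : 2 * half = 1) : (sqVC W half • W).a₃ = 0 := by
  rw [variableChange_a₃]; simp [sqVC]; linear_combination -W.a₃ * hh

/-- Normal form in characteristic three. -/
theorem exists_m3 (ψ : A →+* Ω) (h3 : ψ 3 = 0) {half : A} (hh : 2 * half = 1) (W : WeierstrassCurve A)
    (hc : IsUnit W.c₄) :
    ∃ (B : Type u) (_ : CommRing B) (_ : Algebra A B) (ψ' : B →+* Ω), Algebra.Etale A B ∧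
      ψ'.comp (algebraMap A B) = ψ ∧ ∃ (C : VariableChange B) (a g : B), C • W.map (algebraMap A B) = m3 a g := by
  let V := sqVC W half • W
  have hV : ψ (2 * V.a₂) ≠ 0 := fun h0 => by
    have hc' : IsUnit V.c₄ := by rw [variableChange_c₄]; exact ((sqVC W half).u⁻¹.isUnit.pow _).mul hc
    refine (hc'.map ψ).ne_zero ?_
    have e : V.c₄ = 4 * (2 * V.a₂) ^ 2 - 3 * (16 * V.a₄) := by
      simp only [WeierstrassCurve.c₄, WeierstrassCurve.b₂, WeierstrassCurve.b₄, V, sqVC_a₁ W half hh,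
        sqVC_a₃ W half hh]
      ring
    rw [e, map_sub, map_mul, map_mul, map_pow, h0, h3]
    simp
  obtain ⟨B, _, _, ψ', hB, hψ, hu⟩ := exists_unit ψ _ hV
  haveI := hB
  obtain ⟨D, _, _, ψ'', hD, hψ', r, hr⟩ := exists_quad_root ψ' (3 : B) _ (algebraMap A B V.a₄)
    (by rw [map_ofNat]; rw [← h3, map_ofNat]) hu
  let g := algebraMap B D
  letI : Algebra A D := (g.comp (algebraMap A B)).toAlgebra
  haveI : IsScalarTower A B D := IsScalarTower.of_algebraMap_eq fun _ => rfl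
  haveI := hD
  let V' := V.map (algebraMap A D)
  let C₂ : VariableChange D := ⟨1, r, 0, 0⟩
  have key : C₂ • V' = m3 (C₂ • V').a₂ (C₂ • V').a₆ := by
    ext
    · rw [variableChange_a₁]; simp [C₂, m3, V', V, sqVC_a₁ W half hh]
    · simp [m3]
    · rw [variableChange_a₃]; simp [C₂, m3, V', V, sqVC_a₁ W half hh, sqVC_a₃ W half hh]
    · rw [variableChange_a₄]
      simp only [C₂, m3, V', WeierstrassCurve.map_a₁, WeierstrassCurve.map_a₂, WeierstrassCurve.map_a₃,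
        WeierstrassCurve.map_a₄, V, sqVC_a₁ W half hh, sqVC_a₃ W half hh, map_zero, inv_one,
        Units.val_one, one_pow, one_mul]
      simp only [map_mul, map_ofNat, ← IsScalarTower.algebraMap_apply] at hr
      linear_combination hr
    · simp [m3]
  refine ⟨D, _, _, ψ'', Algebra.Etale.comp A B D, ?_, C₂ * (sqVC W half).map (algebraMap A D),
    (C₂ • V').a₂, (C₂ • V').a₆, ?_⟩
  · rw [← hψ, ← hψ']
    rfl
  · rw [mul_smul, WeierstrassCurve.map_variableChange]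
    exact key

theorem good_char_three [IsAlgClosed Ω] (ψ : A →+* Ω) (h3 : ψ 3 = 0) {half : A} (hh : 2 * half = 1)
    {W₁ W₂ : WeierstrassCurve A} (h : Pair W₁ W₂) : Good ψ W₁ W₂ := by
  obtain ⟨B, _, _, ψ', hB, hψ, C₁, a, g, e₁⟩ := exists_m3 ψ h3 hh W₁ h.hc₁
  haveI := hB
  refine good_of_ext ψ ψ' hψ (good_of_vc ψ' C₁ 1 ?_)
  rw [one_smul, e₁]
  have h3' : ψ' 3 = 0 := by rw [map_ofNat]; rw [← h3, map_ofNat]
  have hh' : 2 * algebraMap A B half = 1 := by
    rw [← map_ofNat (algebraMap A B) 2, ← map_mul, hh, map_one]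
  obtain ⟨D, _, _, ψ'', hD, hψ', C₂, a', g', e₂⟩ :=
    exists_m3 ψ' h3' hh' (W₂.map (algebraMap A B)) (h.map _).hc₂
  haveI := hD
  refine good_of_ext ψ' ψ'' hψ' (good_of_vc ψ'' 1 C₂ ?_)
  have hm : (m3 a g).map (algebraMap B D) = m3 (algebraMap B D a) (algebraMap B D g) := by
    simp [m3, WeierstrassCurve.map]
  have hp := (((h.map (algebraMap A B)).vc C₁ 1).map (algebraMap B D)).vc 1 C₂
  rw [one_smul, one_smul, e₁, hm, e₂] at hp
  rw [one_smul, e₂, hm]
  refine good_m3 ψ'' (by rw [map_ofNat]; rw [← h3', map_ofNat]) ?_ hp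
  have := ((IsUnit.of_mul_eq_one _ hh').map (algebraMap B D)).map ψ''
  rw [map_ofNat] at this
  exact this.ne_zero

/-! ### Both two and three invertible -/

/-- The short model. -/
def m0 (a g : A) : WeierstrassCurve A := ⟨0, 0, 0, a, g⟩

theorem exists_m0 {half third : A} (hh : 2 * half = 1) (ht : 3 * third = 1) (W : WeierstrassCurve A) :
    ∃ (C : VariableChange A) (a g : A), C • W = m0 a g := by
  let V := sqVC W half • W
  let C₂ : VariableChange A := ⟨1, -(third * V.a₂), 0, 0⟩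
  refine ⟨C₂ * sqVC W half, (C₂ • V).a₄, (C₂ • V).a₆, ?_⟩
  rw [mul_smul]
  ext
  · rw [variableChange_a₁]; simp [C₂, m0, V, sqVC_a₁ W half hh]
  · rw [variableChange_a₂]; simp [C₂, m0]; linear_combination -V.a₂ * ht
  · rw [variableChange_a₃]; simp [C₂, m0, V, sqVC_a₁ W half hh, sqVC_a₃ W half hh]
  · simp [m0, V]
  · simp [m0, V]

theorem good_m0 [IsAlgClosed Ω] (ψ : A →+* Ω) {a g a' g' : A}
    (h : Pair (m0 a g) (m0 a' g')) : Good ψ (m0 a g) (m0 a' g') := by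
  have hc4 : ∀ x y : A, (m0 x y).c₄ = -48 * x := fun x y => by
    simp only [m0, WeierstrassCurve.c₄, WeierstrassCurve.b₂, WeierstrassCurve.b₄]; ring
  have hc6 : ∀ x y : A, (m0 x y).c₆ = -864 * y := fun x y => by
    simp only [m0, WeierstrassCurve.c₆, WeierstrassCurve.b₂, WeierstrassCurve.b₄, WeierstrassCurve.b₆]; ring
  have h48 : IsUnit (-48 : A) := isUnit_of_mul_isUnit_left ((hc4 a g) ▸ h.hc₁)
  have ha : IsUnit a := isUnit_of_mul_isUnit_right ((hc4 a g) ▸ h.hc₁)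
  have ha' : IsUnit a' := isUnit_of_mul_isUnit_right ((hc4 a' g') ▸ h.hc₂)
  have hg : IsUnit g := isUnit_of_mul_isUnit_right ((hc6 a g) ▸ h.hd₁)
  have hg' : IsUnit g' := isUnit_of_mul_isUnit_right ((hc6 a' g') ▸ h.hd₂)
  have h864 : IsUnit (-864 : A) := isUnit_of_mul_isUnit_left ((hc6 a g) ▸ h.hd₁)
  have hj := h.hj
  rw [hc4, hc4] at hj
  simp only [m0, WeierstrassCurve.Δ, WeierstrassCurve.b₂, WeierstrassCurve.b₄, WeierstrassCurve.b₆,
    WeierstrassCurve.b₈] at hj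
  have hk : a ^ 3 * g' ^ 2 = a' ^ 3 * g ^ 2 := by
    have hu : IsUnit ((-48 : A) ^ 3 * -432) := by
      refine (h48.pow 3).mul (isUnit_of_mul_isUnit_left (y := (2 : A)) ?_)
      norm_num
      simpa using h864
    refine hu.mul_left_cancel ?_
    linear_combination hj
  obtain ⟨a, rfl⟩ := ha; obtain ⟨a', rfl⟩ := ha'; obtain ⟨g, rfl⟩ := hg; obtain ⟨g', rfl⟩ := hg'
  let c : Aˣ := g * a' * (g' * a)⁻¹
  have h2 : IsUnit (2 : A) := isUnit_of_mul_isUnit_left (y := (-432 : A)) (by norm_num; simpa using h864)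
  obtain ⟨ω, hω⟩ := IsAlgClosed.exists_pow_nat_eq (ψ c) two_pos
  have hω0 : ω ≠ 0 := fun h0 => (c.isUnit.map ψ).ne_zero (by rw [← hω, h0]; simp)
  have h2' : (2 : Ω) ≠ 0 := by rw [← map_ofNat ψ 2]; exact (h2.map ψ).ne_zero
  obtain ⟨B, _, _, ψ', hB, hψ, u, hu2, hu, -, -⟩ := exists_root ψ (X ^ 2 - C (c : A)) X (by monicity!) ω
    (by simp [hω]) (by simp [derivative_pow, map_ofNat, h2', hω0]) (by simp [hω0])
  haveI := hB
  refine good_of_ext ψ ψ' hψ ?_
  simp only [map_sub, map_pow, aeval_X, aeval_C] at hu2 hu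
  obtain ⟨u, rfl⟩ := hu
  let f := algebraMap A B
  have hU : u ^ 2 = Units.map (f : A →* B) c := by
    ext
    push_cast
    exact sub_eq_zero.1 hu2
  have hK : a ^ 3 * g' ^ 2 = a' ^ 3 * g ^ 2 := by
    ext
    push_cast
    exact hk
  have hc2 : a' * c ^ 2 = a := by
    simp only [c, mul_pow, inv_pow, ← mul_assoc]
    rw [mul_inv_eq_iff_eq_mul]
    calc a' * g ^ 2 * a' ^ 2 = a' ^ 3 * g ^ 2 := by
          simp only [pow_succ, pow_zero, one_mul]; ac_rfl
      _ = a ^ 3 * g' ^ 2 := hK.symm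
      _ = a * (g' ^ 2 * a ^ 2) := by simp only [pow_succ, pow_zero, one_mul]; ac_rfl
  have hc3 : g' * c ^ 3 = g := by
    simp only [c, mul_pow, inv_pow, ← mul_assoc]
    rw [mul_inv_eq_iff_eq_mul]
    calc g' * g ^ 3 * a' ^ 3 = g' * g * (a' ^ 3 * g ^ 2) := by
          simp only [pow_succ, pow_zero, one_mul]; ac_rfl
      _ = g' * g * (a ^ 3 * g' ^ 2) := by rw [hK]
      _ = g * (g' ^ 3 * a ^ 3) := by simp only [pow_succ, pow_zero, one_mul]; ac_rfl
  have e4 : u ^ 4 * Units.map (f : A →* B) a' = Units.map (f : A →* B) a := by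
    rw [show 4 = 2 * 2 from rfl, pow_mul, hU, ← map_pow, ← map_mul, mul_comm, hc2]
  have e6 : u ^ 6 * Units.map (f : A →* B) g' = Units.map (f : A →* B) g := by
    rw [show 6 = 2 * 3 from rfl, pow_mul, hU, ← map_pow, ← map_mul, mul_comm, hc3]
  refine good_of_eq ψ' ⟨u, 0, 0, 0⟩ ?_
  ext
  · rw [variableChange_a₁]; simp [m0]
  · rw [variableChange_a₂]; simp [m0]
  · rw [variableChange_a₃]; simp [m0]
  · rw [variableChange_a₄]
    simp only [m0, WeierstrassCurve.map_a₁, WeierstrassCurve.map_a₂, WeierstrassCurve.map_a₃, WeierstrassCurve.map_a₄]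
    have e := congrArg (fun z : Bˣ => (↑(u⁻¹ ^ 4 * z) : B)) e4
    rw [← mul_assoc, ← mul_pow, inv_mul_cancel, one_pow, one_mul] at e
    push_cast at e
    simpa [f] using e.symm
  · rw [variableChange_a₆]
    simp only [m0, WeierstrassCurve.map_a₁, WeierstrassCurve.map_a₂, WeierstrassCurve.map_a₃, WeierstrassCurve.map_a₄,
      WeierstrassCurve.map_a₆]
    have e := congrArg (fun z : Bˣ => (↑(u⁻¹ ^ 6 * z) : B)) e6
    rw [← mul_assoc, ← mul_pow, inv_mul_cancel, one_pow, one_mul] at e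
    push_cast at e
    simpa [f] using e.symm

theorem good [IsAlgClosed Ω] (ψ : A →+* Ω) {W₁ W₂ : WeierstrassCurve A} (h : Pair W₁ W₂) :
    Good ψ W₁ W₂ := by
  by_cases h2 : ψ 2 = 0
  · exact good_char_two ψ h2 h
  obtain ⟨B, _, _, ψ', hB, hψ, hu⟩ := exists_unit ψ 2 h2
  haveI := hB
  refine good_of_ext ψ ψ' hψ ?_
  rw [map_ofNat] at hu
  obtain ⟨half, hh⟩ := hu.exists_right_inv
  by_cases h3 : ψ' 3 = 0
  · exact good_char_three ψ' h3 hh (h.map _)
  obtain ⟨D, _, _, ψ'', hD, hψ', hu3⟩ := exists_unit ψ' 3 h3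
  haveI := hD
  refine good_of_ext ψ' ψ'' hψ' ?_
  rw [map_ofNat] at hu3
  obtain ⟨third, ht⟩ := hu3.exists_right_inv
  have hh' : 2 * algebraMap B D half = 1 := by
    rw [← map_ofNat (algebraMap B D) 2, ← map_mul, hh, map_one]
  have hp := (h.map (algebraMap A B)).map (algebraMap B D)
  obtain ⟨C₁, a, g, e₁⟩ := exists_m0 hh' ht ((W₁.map (algebraMap A B)).map (algebraMap B D))
  obtain ⟨C₂, a', g', e₂⟩ := exists_m0 hh' ht ((W₂.map (algebraMap A B)).map (algebraMap B D))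
  refine good_of_vc ψ'' C₁ C₂ ?_
  have hp' := hp.vc C₁ C₂
  rw [e₁, e₂] at hp' ⊢
  exact good_m0 ψ'' hp'

end Groth.Agent.H26Ell
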